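import Cfsg.Agent.H708.O8.Defs
import Cfsg.Agent.H936.List12b
import Cfsg.Agent.H936.Reix
import Cfsg.Agent.H264.FKS.Res
import Cfsg.Agent.H304.OutCop
import Cfsg.Agent.H109.O8.Named
import Cfsg.Agent.H806.LsFiLe
import Cfsg.Agent.OddHalf.Known
import Cfsg.Agent.H823.O8R.Defs

/-!
# S3691, row POmega8+(q), q >= 16, box (F34-B): `cross34`, cross characteristic socles (helper561)

`aut_dvd`: the order of the automorphism group of every candidate of `H936.List12.list₁` in degree 8 divides `BB`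
(after `Cfsg.Agent.H105.O8.Cross`, by helper105, with a smaller `BB`): no `p ^ (5 a)` with `p ^ a ≥ 16` divides `BB`.
-/

set_option autoImplicit false

namespace Cfsg.Agent.H561.F34

open Cfsg Cfsg.Geo Cfsg.Agent.OrdDiv Cfsg.Agent.H436 Cfsg.Agent.H264.FKS Cfsg.Agent.H902
open Cfsg.Agent.H902.Names Cfsg.Agent.H708.O8 Cfsg.Agent.H915.LD Cfsg.Agent.H884.El Cfsg.Agent.H936.List12
open Cfsg.Agent.H912.Bd Cfsg.Agent.H912.Five
open Cfsg.Agent.H823.O8R (Nm)
open scoped MatrixGroups Matrix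

universe u

/-- a multiple of the orders of the automorphism groups of all candidates -/
def BB : ℕ := 2 ^ 16 * 3 ^ 7 * 5 ^ 2 * 7 ^ 4 * 11 ^ 2 * 13 * 17 * 19 * 23

/-- **The numbers.** -/
theorem not_dvd {p a : ℕ} (hp : p.Prime) (h16 : 16 ≤ p ^ a) {N : ℕ} (hN : N ∣ BB) : ¬ p ^ (5 * a) ∣ N := by
  intro h1
  have h2 := h1.trans hN
  have ha : 1 ≤ a := by
    rcases Nat.eq_zero_or_pos a with rfl | h
    · norm_num at h16
    · exact h
  by_cases hp2 : p = 2
  · subst hp2
    have ha4 : 4 ≤ a := by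
      by_contra hc
      have : 2 ^ a ≤ 2 ^ 3 := Nat.pow_le_pow_right (by norm_num) (by omega)
      omega
    have h3 : 2 ^ 20 ∣ BB := (pow_dvd_pow 2 (by omega)).trans h2
    unfold BB at h3
    norm_num at h3
  by_cases hp3 : p = 3
  · subst hp3
    have ha4 : 3 ≤ a := by
      by_contra hc
      have : 3 ^ a ≤ 3 ^ 2 := Nat.pow_le_pow_right (by norm_num) (by omega)
      omega
    have h3 : 3 ^ 15 ∣ BB := (pow_dvd_pow 3 (by omega)).trans h2
    unfold BB at h3
    norm_num at h3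
  have h5 : p ^ 5 ∣ BB := (pow_dvd_pow p (by omega)).trans h2
  have h6 : p ∣ BB := (dvd_pow_self p (by norm_num)).trans h5
  have key : p = 5 ∨ p = 7 ∨ p = 11 ∨ p = 13 ∨ p = 17 ∨ p = 19 ∨ p = 23 := by
    have hs : ∀ {s k : ℕ}, s.Prime → p ∣ s ^ k → p = s := fun hs h =>
      (Nat.prime_dvd_prime_iff_eq hp hs).1 (hp.dvd_of_dvd_pow h)
    have hs1 : ∀ {s : ℕ}, s.Prime → p ∣ s → p = s := fun hs h => (Nat.prime_dvd_prime_iff_eq hp hs).1 h
    unfold BB at h6
    rcases hp.dvd_mul.1 h6 with h1 | h1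
    rcases hp.dvd_mul.1 h1 with h1 | h1
    rcases hp.dvd_mul.1 h1 with h1 | h1
    rcases hp.dvd_mul.1 h1 with h1 | h1
    rcases hp.dvd_mul.1 h1 with h1 | h1
    rcases hp.dvd_mul.1 h1 with h1 | h1
    rcases hp.dvd_mul.1 h1 with h1 | h1
    rcases hp.dvd_mul.1 h1 with h1 | h1
    · exact absurd (hs Nat.prime_two h1) hp2
    · exact absurd (hs Nat.prime_three h1) hp3
    · have := hs Nat.prime_five h1; omega
    · have := hs (by norm_num) h1; omega
    · have := hs (by norm_num) h1; omega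
    · have := hs1 (by norm_num) h1; omega
    · have := hs1 (by norm_num) h1; omega
    · have := hs1 (by norm_num) h1; omega
    · have := hs1 (by norm_num) h1; omega
  unfold BB at h5
  rcases key with rfl | rfl | rfl | rfl | rfl | rfl | rfl <;> norm_num at h5

section
variable {S : Type u} [Group S] [Finite S] [IsSimpleGroup S]

theorem lie_dvd (hna : ¬ IsMulCommutative S) {g : Grp} {X : Art.Sh} {p f : ℕ} (hg : IsLie g X p f)
    (h : OrdDiv.Real g S) (hr : Art.Real X p f (Nat.card S)) :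
    Nat.card (MulAut S) ∣ 24 * f * ((p ^ f) ^ Art.NN X * Art.num X (p ^ f)) := by
  obtain ⟨c, h1, ⟨d, h2⟩, -⟩ := H364.OutLie.card_out (not_comm hna) hg h hr
  rw [← H934.OutB.card_out_mul S hna, h1, ← hr.eq]
  refine ⟨d, ?_⟩
  calc 24 * f * (Art.dd X (p ^ f) * Nat.card S) = (24 * Art.dd X (p ^ f)) * f * Nat.card S := by ring
    _ = c * d * f * Nat.card S := by rw [h2]
    _ = c * f * Nat.card S * d := by ring

theorem aut_L (hna : ¬ IsMulCommutative S) {n p f q : ℕ} (hp : p.Prime) (hf : 1 ≤ f) (hq : p ^ f = q) (hn : 2 ≤ n)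
    (hn2 : n = 2 → 4 ≤ p ^ f) (h : IsL n q S)
    (hB : 24 * f * ((p ^ f) ^ (n * (n - 1) / 2) * ∏ i ∈ Finset.range (n - 1), ((p ^ f) ^ (i + 2) - 1)) ∣ BB) :
    Nat.card (MulAut S) ∣ BB := by
  subst hq
  obtain ⟨K, iK, iKf, hK, ⟨e⟩⟩ := h
  refine (lie_dvd hna (.psl n p f) ⟨K, iK, iKf, hK, ⟨e⟩⟩ ?_).trans hB
  rw [Nat.card_congr e.toEquiv]
  exact psl_real hp hf hK hn hn2

theorem aut_U (hna : ¬ IsMulCommutative S) {n p f q : ℕ} (hp : p.Prime) (hf : 1 ≤ f) (hq : p ^ f = q) (hn : 3 ≤ n)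
    (hn2 : ¬ (n = 3 ∧ p ^ f = 2)) (h : IsU n q S)
    (hB : 24 * f * ((p ^ f) ^ (n * (n - 1) / 2) *
      ∏ i ∈ Finset.range (n - 1), (if Even i then (p ^ f) ^ (i + 2) - 1 else (p ^ f) ^ (i + 2) + 1)) ∣ BB) :
    Nat.card (MulAut S) ∣ BB := by
  subst hq
  obtain ⟨K, iK, iKf, hK, ⟨e⟩⟩ := h
  refine (lie_dvd hna (.psu n p f) ⟨K, iK, iKf, hK, ⟨e⟩⟩ ?_).trans hB
  rw [Nat.card_congr e.toEquiv]
  exact psu_real hp hf hK hn hn2

theorem aut_S (hna : ¬ IsMulCommutative S) {n p f q : ℕ} (hp : p.Prime) (hf : 1 ≤ f) (hq : p ^ f = q) (hn : 2 ≤ n)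
    (hn2 : n = 2 → 3 ≤ p ^ f) (h : IsS n q S)
    (hB : 24 * f * ((p ^ f) ^ (n ^ 2) * ∏ i ∈ Finset.range n, ((p ^ f) ^ (2 * (i + 1)) - 1)) ∣ BB) :
    Nat.card (MulAut S) ∣ BB := by
  subst hq
  obtain ⟨K, iK, iKf, hK, ⟨e⟩⟩ := h
  refine (lie_dvd hna (.psp n p f) ⟨K, iK, iKf, hK, ⟨e⟩⟩ ?_).trans hB
  rw [Nat.card_congr e.toEquiv]
  exact psp_real hp hf hK hn hn2

theorem aut_OP (hna : ¬ IsMulCommutative S) {n p f q : ℕ} (hp : p.Prime) (hf : 1 ≤ f) (hq : p ^ f = q) (hn : 4 ≤ n)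
    (h : IsOP n q S)
    (hB : 24 * f * ((p ^ f) ^ (n * (n - 1)) *
      (((p ^ f) ^ n - 1) * ∏ i ∈ Finset.range (n - 1), ((p ^ f) ^ (2 * (i + 1)) - 1))) ∣ BB) :
    Nat.card (MulAut S) ∣ BB := by
  subst hq
  obtain ⟨K, iK, iKf, hK, ⟨e⟩⟩ := h
  refine (lie_dvd hna (.oplus n p f) ⟨K, iK, iKf, hK, ⟨e⟩⟩ ?_).trans hB
  rw [Nat.card_congr e.toEquiv]
  exact oplus_real hp hf hK hn

theorem aut_G (hna : ¬ IsMulCommutative S) (h : H912.Bd.IsG2 4 S) : Nat.card (MulAut S) ∣ BB := by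
  obtain ⟨K, iK, iKf, hK, ⟨e⟩⟩ := h
  have h1 := OrdDiv.table.{0}.g2 K
  rw [hK, ← Nat.card_congr e.toEquiv] at h1
  have h2 : Art.Real .G2 2 2 (Nat.card S) := ⟨Nat.prime_two, by norm_num, show 3 ≤ 2 ^ 2 by norm_num, by
    rw [h1]; rfl⟩
  refine (lie_dvd hna (.g2 2 2) ⟨K, iK, iKf, hK, ⟨e⟩⟩ h2).trans ?_
  change 24 * 2 * ((2 ^ 2) ^ 6 * (((2 ^ 2) ^ 2 - 1) * ((2 ^ 2) ^ 6 - 1))) ∣ BB
  unfold BB
  norm_num

theorem aut_Sz (hna : ¬ IsMulCommutative S) (h : IsSz8 S) : Nat.card (MulAut S) ∣ BB := by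
  obtain ⟨K, iK, iKf, hK, ⟨e⟩⟩ := h
  have h1 := OrdDiv.table.{0}.sz K 1 le_rfl hK
  have h2 : Nat.card S = Nat.card ↥(Lie.Sz K (2 ^ (1 + 1))) := Nat.card_congr e.toEquiv
  rw [h1] at h2
  have h3 : Art.Real .Sz 2 3 (Nat.card S) := ⟨Nat.prime_two, by norm_num, ⟨rfl, by decide, le_rfl⟩, by
    rw [h2]; rfl⟩
  refine (lie_dvd hna (.sz 2 3) ⟨K, iK, iKf, 1, le_rfl, hK, rfl, ⟨e⟩⟩ h3).trans ?_
  change 24 * 3 * ((2 ^ 3) ^ 2 * ((2 ^ 3 - 1) * ((2 ^ 3) ^ 2 + 1))) ∣ BB
  unfold BB
  norm_num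

theorem fac_dvd : Nat.factorial 13 ∣ BB := by
  have : Nat.factorial 13 = 6227020800 := by decide
  rw [this]
  unfold BB
  norm_num

omit [Finite S] [IsSimpleGroup S] in
theorem aut_A {m : ℕ} (h5 : 5 ≤ m) (h13 : m ≤ 13) (e : S ≃* alternatingGroup (Fin m)) :
    Nat.card (MulAut S) ∣ BB := by
  rw [Nat.card_congr (MulAut.congr e).toEquiv]
  by_cases h6 : m = 6
  · subst h6
    rw [H824.ProdLem.card_aut_a6]
    unfold BB
    norm_num
  · rw [← Nat.card_congr (Equiv.ofBijective _ (S2119.result m (by omega) h6)), Nat.card_eq_fintype_card,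
      Fintype.card_perm, Fintype.card_fin]
    exact (Nat.factorial_dvd_factorial h13).trans fac_dvd

theorem aut_spor (hna : ¬ IsMulCommutative S) (hs : IsSporadicGroup S) {x : Grp × ℕ} (hx : x ∈ OrdDiv.spor)
    (hr : OrdDiv.Real x.1 S) (hB : 2 * x.2 ∣ BB) : Nat.card (MulAut S) ∣ BB := by
  have h1 := OrdDiv.table.spor S x hx hr
  have h2 : Nat.card (Cfsg.Out S) ≤ 2 := H498.SporOut.index_le_two hs
  have h3 : 0 < Nat.card (Cfsg.Out S) := Nat.card_pos
  rw [← H934.OutB.card_out_mul S hna, h1]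
  refine (Nat.mul_dvd_mul ?_ (dvd_refl _)).trans hB
  interval_cases Nat.card (Cfsg.Out S) <;> norm_num

theorem aut_SporC (hna : ¬ IsMulCommutative S) (h : SporC S) : Nat.card (MulAut S) ∣ BB := by
  unfold SporC at h
  rcases h with h | h | h | h | h | h | h | h | h
  · exact aut_spor hna (by unfold IsSporadicGroup; tauto) (x := (.m11, 7920)) (by simp [spor]) h (by unfold BB; norm_num)
  · exact aut_spor hna (by unfold IsSporadicGroup; tauto) (x := (.m12, 95040)) (by simp [spor]) h (by unfold BB; norm_num)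
  · exact aut_spor hna (by unfold IsSporadicGroup; tauto) (x := (.m22, 443520)) (by simp [spor]) h (by unfold BB; norm_num)
  · exact aut_spor hna (by unfold IsSporadicGroup; tauto) (x := (.m23, 10200960)) (by simp [spor]) h (by unfold BB; norm_num)
  · exact aut_spor hna (by unfold IsSporadicGroup; tauto) (x := (.m24, 244823040)) (by simp [spor]) h (by unfold BB; norm_num)
  · exact aut_spor hna (by unfold IsSporadicGroup; tauto) (x := (.j1, 175560)) (by simp [spor]) h (by unfold BB; norm_num)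
  · exact aut_spor hna (by unfold IsSporadicGroup; tauto) (x := (.j2, 604800)) (by simp [spor]) h (by unfold BB; norm_num)
  · exact aut_spor hna (by unfold IsSporadicGroup; tauto) (x := (.j3, 50232960)) (by simp [spor]) h (by unfold BB; norm_num)
  · exact aut_spor hna (by unfold IsSporadicGroup; tauto) (x := (.suz, 448345497600)) (by simp [spor]) h
      (by unfold BB; norm_num)

theorem aut_L2 (hna : ¬ IsMulCommutative S) {q : ℕ} (hq : q ∈ ({7, 8, 11, 13, 17, 19, 23, 25} : Finset ℕ))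
    (hle : (q - 1) / Nat.gcd 2 (q - 1) ≤ 8) (h : IsL 2 q S) : Nat.card (MulAut S) ∣ BB := by
  simp only [Finset.mem_insert, Finset.mem_singleton] at hq
  rcases hq with rfl | rfl | rfl | rfl | rfl | rfl | rfl | rfl
  · exact aut_L hna (p := 7) (f := 1) (by norm_num) le_rfl (by norm_num) le_rfl (fun _ => by norm_num) h
      (by unfold BB; simp only [Finset.prod_range_succ, Finset.prod_range_zero]; norm_num)
  · exact aut_L hna (p := 2) (f := 3) (by norm_num) (by norm_num) (by norm_num) le_rfl (fun _ => by norm_num) h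
      (by unfold BB; simp only [Finset.prod_range_succ, Finset.prod_range_zero]; norm_num)
  · exact aut_L hna (p := 11) (f := 1) (by norm_num) le_rfl (by norm_num) le_rfl (fun _ => by norm_num) h
      (by unfold BB; simp only [Finset.prod_range_succ, Finset.prod_range_zero]; norm_num)
  · exact aut_L hna (p := 13) (f := 1) (by norm_num) le_rfl (by norm_num) le_rfl (fun _ => by norm_num) h
      (by unfold BB; simp only [Finset.prod_range_succ, Finset.prod_range_zero]; norm_num)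
  · exact aut_L hna (p := 17) (f := 1) (by norm_num) le_rfl (by norm_num) le_rfl (fun _ => by norm_num) h
      (by unfold BB; simp only [Finset.prod_range_succ, Finset.prod_range_zero]; norm_num)
  · norm_num at hle
  · norm_num at hle
  · norm_num at hle

theorem aut_LieC (hna : ¬ IsMulCommutative S) {p : ℕ} (h : LieC p 8 S) : Nat.card (MulAut S) ∣ BB := by
  rcases h with ⟨q, hq, -, h2, h3⟩ | ⟨-, -, h⟩ | ⟨-, -, h⟩ | ⟨-, h, -⟩ | ⟨-, -, -, h⟩ | ⟨-, -, h⟩ | ⟨-, h, -⟩ |
    ⟨-, -, h⟩ | ⟨-, -, h⟩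
  · exact aut_L2 hna hq h2 h3
  · exact aut_L hna (p := 3) (f := 1) (by norm_num) le_rfl (by norm_num) (by norm_num) (by norm_num) h
      (by unfold BB; simp only [Finset.prod_range_succ, Finset.prod_range_zero]; norm_num)
  · exact aut_U hna (p := 3) (f := 1) (by norm_num) le_rfl (by norm_num) le_rfl (by norm_num) h
      (by unfold BB; simp [Finset.prod_range_succ])
  · omega
  · exact aut_U hna (p := 2) (f := 1) (by norm_num) le_rfl (by norm_num) (by norm_num) (by norm_num) h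
      (by unfold BB; simp only [show 4 - 1 = 3 from rfl, Finset.prod_range_succ, Finset.prod_range_zero]; norm_num [Nat.even_iff])
  · exact aut_U hna (p := 2) (f := 1) (by norm_num) le_rfl (by norm_num) (by norm_num) (by norm_num) h
      (by unfold BB; simp only [show 5 - 1 = 4 from rfl, Finset.prod_range_succ, Finset.prod_range_zero]; norm_num [Nat.even_iff])
  · omega
  · exact aut_S hna (p := 2) (f := 1) (by norm_num) le_rfl (by norm_num) (by norm_num) (by norm_num) h
      (by unfold BB; simp only [Finset.prod_range_succ, Finset.prod_range_zero]; norm_num)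
  · exact aut_OP hna (p := 2) (f := 1) (by norm_num) le_rfl (by norm_num) (by norm_num) h
      (by unfold BB; simp only [Finset.prod_range_succ, Finset.prod_range_zero]; norm_num)

theorem aut_MultD (hna : ¬ IsMulCommutative S) {p : ℕ} (h : MultD p 8 S) : Nat.card (MulAut S) ∣ BB := by
  rcases h with ⟨-, -, h⟩ | ⟨-, h, -⟩
  · rcases h with h | h | ⟨-, h⟩ | h | h | h
    · exact aut_L2 hna (q := 7) (by simp) (by norm_num) h
    · exact aut_L hna (p := 2) (f := 2) (by norm_num) (by norm_num) (by norm_num) (by norm_num) (by norm_num) h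
        (by unfold BB; simp only [Finset.prod_range_succ, Finset.prod_range_zero]; norm_num)
    · exact aut_U hna (p := 2) (f := 1) (by norm_num) le_rfl (by norm_num) (by norm_num) (by norm_num) h
        (by unfold BB; simp only [show 4 - 1 = 3 from rfl, Finset.prod_range_succ, Finset.prod_range_zero]; norm_num [Nat.even_iff])
    · exact aut_S hna (p := 2) (f := 1) (by norm_num) le_rfl (by norm_num) (by norm_num) (by norm_num) h
        (by unfold BB; simp only [Finset.prod_range_succ, Finset.prod_range_zero]; norm_num)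
    · exact aut_OP hna (p := 2) (f := 1) (by norm_num) le_rfl (by norm_num) (by norm_num) h
        (by unfold BB; simp only [Finset.prod_range_succ, Finset.prod_range_zero]; norm_num)
    · exact aut_G hna h
  · omega

end

/-- **The automorphism groups of the candidates in degree 8.** -/
theorem aut_dvd {F : Type u} [Field F] [Finite F] {p : ℕ} [CharP F p] [hp : Fact p.Prime]
    {P : Subgroup (GL (Fin 8) F)} (hC : Core P) (hk : IsKnownSimple' (Soc P)) (hL : ¬ IsLieTypeChar p (Soc P)) :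
    Nat.card (MulAut (Soc P)) ∣ BB := by
  have hs : IsSimpleGroup (Soc P) := hC.simple
  have hna : ¬ IsMulCommutative (Soc P) := hC.nonabelian
  have : Finite (Soc P) := inferInstance
  rcases list₁ (p := p) (n := 8) (by norm_num) hC hk hL with (h | h | h | h | h) | h
  · obtain ⟨m, h5, h14, -, -, h12, ⟨e⟩⟩ := h
    exact aut_A h5 (by by_contra hc; have := h12 (by omega); omega) e
  · exact aut_LieC hna h
  · exact aut_MultD hna h
  · exact aut_Sz hna h.2.2
  · exact aut_SporC hna h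
  · exfalso
    obtain ⟨-, ⟨⟨e⟩⟩ | ⟨⟨e⟩⟩ | ⟨⟨e⟩⟩ | ⟨⟨e⟩⟩⟩ := h
    · have := H806.Ls.fi22_le hp.out hC e
      omega
    · have := H806.Ls.fi23_le hp.out hC e
      omega
    · have := H806.Ls.b_le hp.out hC e
      omega
    · have := H806.Ls.m_le hp.out hC e
      omega

section
variable {F : Type} [Field F] [Fintype F] {p a r b s k t : ℕ}

theorem charP_of (hp : p.Prime) (ha : 1 ≤ a) (hF : Nat.card F = p ^ a) : CharP F p := by
  rw [Nat.card_eq_fintype_card] at hF
  exact H936.List12.charP_of_dvd hp (by rw [hF]; exact dvd_pow_self p (by omega))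

/-- **(F34-B)**: cross characteristic, `q ≥ 16` -/
theorem cross34' (hF : Nat.card F = p ^ a) (hp : p.Prime) (h16 : 16 ≤ p ^ a)
    {R : Subgroup (T8 F)} (S : Subgroup R) [S.Normal]
    (hC : Subgroup.centralizer (S : Set R) = ⊥) {P : Subgroup (GL H708.O8.I8 F)}
    (hP : IsResidualCore (pre (quadFormPlus 4 F) R) P) (e : S ≃* Soc P) (hL : ¬ IsLieTypeChar p (Soc P))
    (hk : IsKnownSimple' (Soc P)) : ¬ p ^ (5 * a) ∣ Nat.card R := by
  have ha : 1 ≤ a := by
    rcases Nat.eq_zero_or_pos a with rfl | h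
    · norm_num at h16
    · exact h
  have := charP_of hp ha hF
  have := Fact.mk hp
  let ix : H708.O8.I8 ≃ Fin 8 := finSumFinEquiv
  have hC' := H936.Reix.core_rx ix (core_of_residual hP)
  have e' := H936.Reix.socEquiv ix P
  refine not_dvd hp h16 ((dvd_aut S hC).trans ?_)
  rw [Nat.card_congr (MulAut.congr (e.trans e')).toEquiv]
  exact aut_dvd (p := p) hC'
    (OddHalf.Known.isKnownSimple'_congr e' (core_of_residual hP).nonabelian hk)
    (fun h => hL (OddHalf.Known.isLieTypeChar_congr e'.symm h))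

/-- **(F34-B)**: cross characteristic -/
theorem cross34 {R : Subgroup (T8 F)} (hF : Nat.card F = p ^ a) (h : Nm p a r b s k t) (S : Subgroup R) [S.Normal]
    (_hS : IsSimpleGroup S) (_hna : ¬ IsMulCommutative S) (hC : Subgroup.centralizer (S : Set R) = ⊥)
    {P : Subgroup (GL H708.O8.I8 F)} (hP : IsResidualCore (pre (quadFormPlus 4 F) R) P) (e : S ≃* Soc P)
    (hL : ¬ IsLieTypeChar p (Soc P)) (hk : IsKnownSimple' (Soc P)) : ¬ p ^ (5 * a) ∣ Nat.card R :=
  cross34' hF h.rb.hp h.q16 S hC hP e hL hk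

end

end Cfsg.Agent.H561.F34
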